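import Groth.Agent.CAlgN2.Tate
import Groth.Agent.CAlgMisc.PowerSeriesNormal
import Groth.Agent.CAlgCohen.Normalization
import Mathlib.RingTheory.MvPowerSeries.Equiv
import Mathlib.RingTheory.PowerSeries.Inverse
import Mathlib.RingTheory.AdicCompletion.Completeness

/-!
# Power series rings and complete local rings are N-2
-/

universe u

namespace Groth.Agent.CAlgN2

/-- A finite extension domain of an N-2 domain is N-2. -/
theorem isN2_of_finite (A D : Type u) [CommRing A] [IsDomain A] [CommRing D] [IsDomain D] [Algebra A D]
    [Module.Finite A D] (hinj : Function.Injective (algebraMap A D)) (h : CAlg.IsN2 A) : CAlg.IsN2 D := by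
  intro L _ _ _ _ hfin
  haveI : FaithfulSMul A (FractionRing D) := (faithfulSMul_iff_algebraMap_injective A _).2 (by
    rw [IsScalarTower.algebraMap_eq A D (FractionRing D)]
    exact (IsFractionRing.injective D (FractionRing D)).comp hinj)
  letI : Algebra (FractionRing A) (FractionRing D) := FractionRing.liftAlgebra A (FractionRing D)
  haveI : FiniteDimensional (FractionRing A) (FractionRing D) := by
    obtain ⟨n, g, hg⟩ := Module.Finite.exists_fin (R := A) (M := D)
    let E : IntermediateField (FractionRing A) (FractionRing D) :=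
      IntermediateField.adjoin _ (Set.range fun i => algebraMap D (FractionRing D) (g i))
    haveI : FiniteDimensional (FractionRing A) E :=
      IntermediateField.finiteDimensional_adjoin
        (S := Set.range fun i => algebraMap D (FractionRing D) (g i)) (by
        rintro _ ⟨i, rfl⟩
        exact ((Algebra.IsIntegral.isIntegral (R := A) (g i)).map
          (IsScalarTower.toAlgHom A D (FractionRing D))).tower_top)
    have hD : ∀ d : D, algebraMap D (FractionRing D) d ∈ E := by
      intro d
      obtain ⟨c, rfl⟩ := (Submodule.mem_span_range_iff_exists_fun A).1 (hg ▸ Submodule.mem_top (x := d))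
      rw [map_sum]
      refine sum_mem fun i _ => ?_
      rw [Algebra.smul_def, map_mul, ← IsScalarTower.algebraMap_apply,
        IsScalarTower.algebraMap_apply A (FractionRing A) (FractionRing D)]
      exact mul_mem (E.algebraMap_mem _) (IntermediateField.subset_adjoin _ _ ⟨i, rfl⟩)
    have hE : E = ⊤ := by
      refine eq_top_iff.2 fun z _ => ?_
      obtain ⟨a, b, -, rfl⟩ := IsFractionRing.div_surjective D z
      exact div_mem (hD a) (hD b)
    haveI : FiniteDimensional (FractionRing A) (⊤ : IntermediateField (FractionRing A) (FractionRing D)) :=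
      hE ▸ ‹FiniteDimensional (FractionRing A) E›
    exact Module.Finite.equiv
      (IntermediateField.topEquiv (F := FractionRing A) (E := FractionRing D)).toLinearEquiv
  letI : Algebra A L := ((algebraMap D L).comp (algebraMap A D)).toAlgebra
  haveI : IsScalarTower A D L := IsScalarTower.of_algebraMap_eq fun _ => rfl
  letI : Algebra (FractionRing A) L :=
    ((algebraMap (FractionRing D) L).comp (algebraMap (FractionRing A) (FractionRing D))).toAlgebra
  haveI : IsScalarTower (FractionRing A) (FractionRing D) L := IsScalarTower.of_algebraMap_eq fun _ => rfl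
  haveI : IsScalarTower A (FractionRing A) L := IsScalarTower.of_algebraMap_eq fun a => by
    show algebraMap D L (algebraMap A D a) = algebraMap (FractionRing D) L
      (algebraMap (FractionRing A) (FractionRing D) (algebraMap A (FractionRing A) a))
    rw [← IsScalarTower.algebraMap_apply A (FractionRing A) (FractionRing D),
      IsScalarTower.algebraMap_apply A D (FractionRing D),
      ← IsScalarTower.algebraMap_apply D (FractionRing D) L]
  haveI : Module.Finite A (integralClosure A L) := h L (Module.Finite.trans (FractionRing D) L)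
  haveI : Algebra.IsIntegral A D := Algebra.IsIntegral.of_finite A D
  haveI : Module.Finite A (integralClosure D L) :=
    Module.Finite.of_surjective
      ({ toFun := fun z => ⟨z.1, z.2.tower_top⟩, map_add' := fun _ _ => rfl, map_smul' := fun _ _ => rfl } :
        integralClosure A L →ₗ[A] integralClosure D L) fun z => ⟨⟨z.1, isIntegral_trans z.1 z.2⟩, rfl⟩
  exact Module.Finite.of_restrictScalars_finite A D _

/-- Power series over a normal Noetherian N-2 domain. -/
theorem isN2_powerSeries_normal (A : Type u) [CommRing A] [IsDomain A] [IsNoetherianRing A]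
    [IsIntegrallyClosed A] (h : CAlg.IsN2 A) : CAlg.IsN2 (PowerSeries A) := by
  haveI := CAlgMisc.isIntegrallyClosed_powerSeries A
  have hker : Ideal.span {(PowerSeries.X : PowerSeries A)} = RingHom.ker (PowerSeries.constantCoeff (R := A)) :=
    Ideal.ext fun f => by rw [Ideal.mem_span_singleton, PowerSeries.X_dvd_iff, RingHom.mem_ker]
  haveI : (Ideal.span {(PowerSeries.X : PowerSeries A)}).IsPrime := PowerSeries.span_X_isPrime
  exact isN2_of_complete_of_quotient (PowerSeries.X : PowerSeries A) (N2Poly.isN2_of_ringEquiv
    ((Ideal.quotEquivOfEq hker).trans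
      (RingHom.quotientKerEquivOfSurjective fun a => ⟨PowerSeries.C a, PowerSeries.constantCoeff_C a⟩)).symm h)

theorem mvPowerSeries_normal_and_isN2 (A : Type u) [CommRing A] [IsDomain A] [IsNoetherianRing A]
    [IsIntegrallyClosed A] (h : CAlg.IsN2 A) : ∀ r : ℕ,
    IsIntegrallyClosed (MvPowerSeries (Fin r) A) ∧
      ∀ [IsDomain (MvPowerSeries (Fin r) A)], CAlg.IsN2 (MvPowerSeries (Fin r) A) := by
  intro r
  induction r with
  | zero =>
    let e : A ≃+* MvPowerSeries (Fin 0) A :=
      RingEquiv.ofBijective (MvPowerSeries.C (σ := Fin 0) (R := A))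
        ⟨fun a b hab => by simpa using congrArg (MvPowerSeries.constantCoeff (σ := Fin 0) (R := A)) hab,
          fun f => ⟨MvPowerSeries.constantCoeff f, MvPowerSeries.ext fun n => by
            classical
            rw [Subsingleton.elim n 0]; simp⟩⟩
    exact ⟨IsIntegrallyClosed.of_equiv e, N2Poly.isN2_of_ringEquiv e h⟩
  | succ r ih =>
    let e := (MvPowerSeries.finSuccEquiv (R := A) (n := r)).toRingEquiv.symm
    haveI : IsDomain (MvPowerSeries (Fin r) A) := NoZeroDivisors.to_isDomain _
    haveI := ih.1
    haveI : IsNoetherianRing (MvPowerSeries (Fin r) A) := inferInstance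
    haveI := CAlgMisc.isIntegrallyClosed_powerSeries (MvPowerSeries (Fin r) A)
    exact ⟨IsIntegrallyClosed.of_equiv e,
      N2Poly.isN2_of_ringEquiv e (isN2_powerSeries_normal _ ih.2)⟩

open IsLocalRing in
theorem isN2_of_cohenRing (Λ : Type u) [CommRing Λ] [IsDomain Λ] (h : CAlg.IsCohenRing Λ) :
    CAlg.IsN2 Λ ∧ IsNoetherianRing Λ ∧ IsIntegrallyClosed Λ := by
  obtain ⟨_, _, hc, p, hp, hm⟩ := h
  haveI := hc
  haveI : IsNoetherianRing Λ := inferInstance
  haveI : IsIntegrallyClosed Λ := inferInstance
  haveI hprime : (Ideal.span ({(p : Λ)} : Set Λ)).IsPrime := hm ▸ (maximalIdeal.isMaximal Λ).isPrime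
  haveI : IsAdicComplete (Ideal.span ({(p : Λ)} : Set Λ)) Λ := hm ▸ hc
  refine ⟨isN2_of_complete_of_quotient (p : Λ) ?_, inferInstance, inferInstance⟩
  exact N2Poly.isN2_of_ringEquiv (Ideal.quotEquivOfEq hm) (N2Poly.isN2_field (ResidueField Λ))

open IsLocalRing in
theorem isN2_of_complete_local (R : Type u) [CommRing R] [IsDomain R] [IsLocalRing R]
    [IsNoetherianRing R] [IsAdicComplete (maximalIdeal R) R] : CAlg.IsN2 R := by
  obtain ⟨Λ, _, n, f, hΛ, hinj, hfin, -⟩ := CAlgCohen.exists_normalization (R := R)
  haveI : IsDomain Λ := Function.Injective.isDomain (f.comp MvPowerSeries.C)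
    (hinj.comp fun a b hab => by
      simpa using congrArg (MvPowerSeries.constantCoeff (σ := Fin n) (R := Λ)) hab)
  obtain ⟨h2, hN, hI⟩ : CAlg.IsN2 Λ ∧ IsNoetherianRing Λ ∧ IsIntegrallyClosed Λ := by
    rcases hΛ with hF | hC
    · letI := hF.toField
      exact ⟨N2Poly.isN2_field Λ, inferInstance, inferInstance⟩
    · exact isN2_of_cohenRing Λ hC
  haveI := hN
  haveI := hI
  haveI : IsDomain (MvPowerSeries (Fin n) Λ) := NoZeroDivisors.to_isDomain _
  letI : Algebra (MvPowerSeries (Fin n) Λ) R := f.toAlgebra
  haveI : Module.Finite (MvPowerSeries (Fin n) Λ) R := hfin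
  exact isN2_of_finite _ R hinj (mvPowerSeries_normal_and_isN2 Λ h2 n).2

end Groth.Agent.CAlgN2
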