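import Groth.Prelude.Def_Found
import Groth.Agent.N2Poly.Basic
import Mathlib.FieldTheory.PurelyInseparable.PerfectClosure

/-!
# It suffices to test the N-2 condition on purely inseparable extensions
-/

universe u

open Polynomial

namespace Groth.Agent.CAlgN2

set_option synthInstance.maxHeartbeats 100000 in
theorem isN2_of_purelyInseparable (A : Type u) [CommRing A] [IsDomain A] [IsNoetherianRing A]
    (h : ∀ (K' : Type u) [Field K'] [Algebra A K'] [Algebra (FractionRing A) K']
      [IsScalarTower A (FractionRing A) K'], FiniteDimensional (FractionRing A) K' →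
      IsPurelyInseparable (FractionRing A) K' → Module.Finite A (integralClosure A K')) :
    CAlg.IsN2 A := by
  intro L _ _ _ _ hfin
  classical
  let F := FractionRing A
  let Ω := AlgebraicClosure L
  let p := ringExpChar F
  let b := Module.finBasis F L
  obtain ⟨n, hn⟩ := N2Poly.exists_pow_separable F L p b
  let _ : ExpChar Ω p := expChar_of_injective_algebraMap (algebraMap F Ω).injective p
  have hq : 0 < p ^ n := pow_pos (expChar_pos F p) n
  let φ : Ω →+* Ω := iterateFrobenius Ω p n
  have hφ : ∀ x, φ x = x ^ p ^ n := fun x => iterateFrobenius_def ..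
  choose root hroot using fun c : F => IsAlgClosed.exists_pow_nat_eq (algebraMap F Ω c) hq
  let g : Fin (Module.finrank F L) → F[X] := fun i => minpoly F (b i ^ p ^ n)
  let S : Finset F := Finset.univ.biUnion fun i => (g i).support.image (g i).coeff
  let K' : IntermediateField F Ω := IntermediateField.adjoin F (root '' (S : Set F))
  have : FiniteDimensional F K' :=
    IntermediateField.finiteDimensional_adjoin (S := root '' (S : Set F)) (by
      rintro _ ⟨r, -, rfl⟩
      exact IsIntegral.of_pow hq (by rw [hroot]; exact isIntegral_algebraMap))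
  have hpi : IsPurelyInseparable F K' := by
    rw [IntermediateField.isPurelyInseparable_adjoin_iff_pow_mem _ _ p]
    rintro _ ⟨c, -, rfl⟩
    exact ⟨n, c, (hroot c).symm⟩
  have : IsScalarTower A K' Ω := IsScalarTower.of_algebraMap_eq fun _ => rfl
  let A' := integralClosure A K'
  have : Module.Finite A A' := h K' inferInstance hpi
  have : IsNoetherianRing A' := IsNoetherianRing.of_finite A A'
  have : IsFractionRing A' K' := integralClosure.isFractionRing_of_finite_extension F K'
  have : IsIntegrallyClosed A' := integralClosure.isIntegrallyClosedOfFiniteExtension F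
  let χ : K' →+* Ω := φ.comp (algebraMap K' Ω)
  let y : Fin (Module.finrank F L) → Ω := fun i => algebraMap L Ω (b i)
  have hsep : ∀ i, IsSeparable K' (y i) := by
    intro i
    obtain ⟨k, hk⟩ : ∃ k : K'[X], k.map χ = (g i).map (algebraMap F Ω) := by
      refine (Polynomial.lifts_iff_coeff_lifts ((g i).map (algebraMap F Ω))).mpr fun j => ?_
      rw [coeff_map]
      by_cases hj : j ∈ (g i).support
      · exact ⟨⟨root ((g i).coeff j), IntermediateField.subset_adjoin _ _
          ⟨_, Finset.mem_biUnion.mpr ⟨i, Finset.mem_univ _, Finset.mem_image_of_mem _ hj⟩, rfl⟩⟩,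
          (hφ _).trans (hroot _)⟩
      · exact ⟨0, by rw [notMem_support_iff.mp hj, map_zero, map_zero]⟩
    have hks : k.Separable :=
      (separable_map χ).mp (hk ▸ (Polynomial.Separable.map (hn i) (f := algebraMap F Ω)))
    refine hks.of_dvd (minpoly.dvd K' _ ?_)
    refine φ.injective ?_
    rw [map_zero, aeval_def, hom_eval₂, hφ, ← eval_map, hk, eval_map, ← aeval_def]
    show aeval (algebraMap L Ω (b i) ^ p ^ n) (g i) = 0
    rw [← map_pow, aeval_algebraMap_apply, minpoly.aeval, map_zero]
  let L' : IntermediateField K' Ω := IntermediateField.adjoin K' (Set.range y)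
  have : FiniteDimensional K' L' :=
    IntermediateField.finiteDimensional_adjoin (S := Set.range y)
      (by rintro _ ⟨i, rfl⟩; exact (hsep i).isIntegral)
  have : Algebra.IsSeparable K' L' :=
    (IntermediateField.isSeparable_adjoin_iff_isSeparable K' Ω).mpr (by rintro _ ⟨i, rfl⟩; exact hsep i)
  have hL : ∀ x : L, algebraMap L Ω x ∈ L' := by
    intro x
    rw [← b.sum_repr x, map_sum]
    refine sum_mem fun i _ => ?_
    rw [Algebra.smul_def, map_mul, ← IsScalarTower.algebraMap_apply]
    exact mul_mem (L'.algebraMap_mem ⟨algebraMap F Ω (b.repr x i), K'.algebraMap_mem _⟩)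
      (IntermediateField.subset_adjoin _ _ ⟨i, rfl⟩)
  have : IsScalarTower A' L' Ω := IsScalarTower.of_algebraMap_eq fun _ => rfl
  have hfinD : Module.Finite A' (integralClosure A' L') :=
    IsIntegralClosure.finite A' K' L' (integralClosure A' L')
  have : IsScalarTower A A' L' := IsScalarTower.of_algebraMap_eq fun _ => rfl
  have : IsScalarTower A L' Ω := IsScalarTower.of_algebraMap_eq fun _ => rfl
  have : Module.Finite A (integralClosure A' L') := Module.Finite.trans A' _
  let ι : integralClosure A L →ₗ[A] integralClosure A' L' :=
    { toFun := fun x => ⟨⟨algebraMap L Ω x.1, hL x.1⟩,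
        (isIntegral_algebraMap_iff (algebraMap L' Ω).injective).mp
          ((x.2.map (IsScalarTower.toAlgHom A L Ω)).tower_top)⟩
      map_add' := fun x y => Subtype.ext (Subtype.ext (map_add _ _ _))
      map_smul' := fun r x => Subtype.ext (Subtype.ext (by
        simp only [RingHom.id_apply, Algebra.smul_def]
        show _ = algebraMap L' Ω (algebraMap A L' r) * algebraMap L Ω x.1
        rw [← IsScalarTower.algebraMap_apply A L' Ω, Subalgebra.coe_mul, Subalgebra.coe_algebraMap, map_mul,
          ← IsScalarTower.algebraMap_apply A L Ω])) }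
  exact Module.Finite.of_injective ι fun x y hxy => Subtype.ext ((algebraMap L Ω).injective
    (congrArg (fun z : integralClosure A' L' => (z.1 : Ω)) hxy))

/-- In characteristic zero N-1 implies N-2. -/
theorem isN2_of_isN1_of_charZero (R : Type u) [CommRing R] [IsDomain R] [IsNoetherianRing R] [CharZero R]
    (h : CAlg.IsN1 R) : CAlg.IsN2 R := by
  refine isN2_of_purelyInseparable R fun K' _ _ _ _ _ _ => ?_
  haveI : Module.Finite R (integralClosure R (FractionRing R)) := h
  have hsurj : Function.Surjective (algebraMap (FractionRing R) K') :=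
    haveI : CharZero (FractionRing R) :=
      charZero_of_injective_algebraMap (IsFractionRing.injective R (FractionRing R))
    IsPurelyInseparable.surjective_algebraMap_of_isSeparable (FractionRing R) K'
  exact Module.Finite.equiv (AlgEquiv.mapIntegralClosure
    (AlgEquiv.ofBijective (IsScalarTower.toAlgHom R (FractionRing R) K')
      ⟨(algebraMap (FractionRing R) K').injective, hsurj⟩)).toLinearEquiv

theorem isN1_of_isN2 (R : Type u) [CommRing R] [IsDomain R] (h : CAlg.IsN2 R) : CAlg.IsN1 R :=
  h (FractionRing R) inferInstance

end Groth.Agent.CAlgN2
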