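import Groth.Agent.CAlgN2.CompleteLocal
import Groth.Agent.CAlgRedStab.Exists
import Groth.Agent.ArtHull.Hull
import Groth.Agent.AdicNoeth.Basic
import Mathlib.RingTheory.AdicCompletion.LocalRing
import Mathlib.RingTheory.RingHom.FaithfullyFlat

/-!
# Analytically unramified local domains
-/

universe u

open IsLocalRing TensorProduct

namespace Groth.Agent.CAlgN2

variable (A : Type u) [CommRing A] [IsLocalRing A] [IsNoetherianRing A]

instance isNoetherianRing_completion : IsNoetherianRing (AdicCompletion (maximalIdeal A) A) :=
  AdicNoeth.isNoetherianRing_adicCompletion _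

lemma isN2_quotient_completion (q : Ideal (AdicCompletion (maximalIdeal A) A)) [q.IsPrime] :
    CAlg.IsN2 (AdicCompletion (maximalIdeal A) A ⧸ q) := by
  haveI : IsLocalRing (AdicCompletion (maximalIdeal A) A ⧸ q) :=
    IsLocalRing.of_surjective' (Ideal.Quotient.mk q) Ideal.Quotient.mk_surjective
  haveI := ArtHull.isAdicComplete_quotient q
  exact isN2_of_complete_local _

lemma faithfullyFlat_completion : Module.FaithfullyFlat A (AdicCompletion (maximalIdeal A) A) :=
  Module.FaithfullyFlat.of_flat_of_isLocalHom

variable {A} [IsDomain A] {K' : Type u} [Field K'] [Algebra A K'] [Algebra (FractionRing A) K']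
  [IsScalarTower A (FractionRing A) K'] [FiniteDimensional (FractionRing A) K']

/-- If the completion stays reduced in `K'`, the integral closure in `K'` is finite. -/
theorem finite_integralClosure_of_isReduced
    (h : IsReduced (K' ⊗[A] AdicCompletion (maximalIdeal A) A)) :
    Module.Finite A (integralClosure A K') := by
  let Ah := AdicCompletion (maximalIdeal A) A
  haveI := CAlgRedStab.flat_extension (A := A) (K' := K')
  haveI := faithfullyFlat_completion A
  obtain ⟨C₀, h₀⟩ := CAlgRedStab.exists_model (A := A) (K' := K')
  obtain ⟨Cα, hCα, hstab, -⟩ := CAlgRedStab.exists_stable (B := Ah)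
    (fun q _ _ => isN2_quotient_completion A q) C₀ h₀
  haveI := hCα.1
  have hle : ∀ z ∈ integralClosure A K', z ∈ Cα := by
    intro z hz
    haveI : Module.Finite A (Algebra.adjoin A ({z} : Set K')) :=
      Module.Finite.iff_fg.2 (IsIntegral.fg_adjoin_singleton hz)
    let C := Cα ⊔ Algebra.adjoin A ({z} : Set K')
    obtain ⟨-, hsurj⟩ := hstab C hCα.sup_adjoin le_sup_left
    haveI : IsReduced (C ⊗[A] Ah) := isReduced_of_injective _ (CAlgRedStab.bigMap_injective C)
    have : Function.Surjective
        (LinearMap.rTensor Ah (Subalgebra.inclusion (le_sup_left : Cα ≤ C)).toLinearMap) := fun y => by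
      obtain ⟨x, hx⟩ := hsurj y
      exact ⟨x, sub_eq_zero.1 hx.eq_zero⟩
    have hsurj' : Function.Surjective (Subalgebra.inclusion (le_sup_left : Cα ≤ C)).toLinearMap := by
      refine (Module.FaithfullyFlat.lTensor_surjective_iff_surjective A Ah _).1 ?_
      exact (LinearMap.lTensor_surj_iff_rTensor_surj Ah _).2 this
    obtain ⟨c, hc⟩ := hsurj' ⟨z, Algebra.mem_sup_right (Algebra.self_mem_adjoin_singleton A z)⟩
    have e : c.1 = z := congrArg Subtype.val hc
    exact e ▸ c.2
  let ι : integralClosure A K' →ₗ[A] Cα :=
    { toFun := fun z => ⟨z.1, hle z.1 z.2⟩, map_add' := fun _ _ => rfl, map_smul' := fun _ _ => rfl }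
  exact Module.Finite.of_injective ι fun a b h => Subtype.ext (congrArg (fun z : Cα => z.1) h)

omit [IsLocalRing A] [IsNoetherianRing A] in

/-- Tensoring with a field extension commutes with an injection. -/
lemma isReduced_tensor_of_injective {S R : Type u} [CommRing S] [CommRing R] [Algebra A S]
    [Algebra A R] [Module.Flat A K'] (f : S →ₐ[A] R) (hf : Function.Injective f) (h : IsReduced (R ⊗[A] K')) :
    IsReduced (K' ⊗[A] S) := by
  haveI : IsReduced (K' ⊗[A] R) := isReduced_of_injective _
    (Algebra.TensorProduct.comm A K' R).injective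
  exact isReduced_of_injective (Algebra.TensorProduct.map (AlgHom.id A K') f)
    (Module.Flat.lTensor_preserves_injective_linearMap (M := K') f.toLinearMap hf)

/-- Analytically unramified local domains are N-1. -/
theorem isN1_of_isReduced_completion [IsReduced (AdicCompletion (maximalIdeal A) A)] :
    CAlg.IsN1 A := by
  let Ah := AdicCompletion (maximalIdeal A) A
  refine finite_integralClosure_of_isReduced (A := A) (K' := FractionRing A) ?_
  refine ⟨fun z hz => ?_⟩
  let M := Algebra.algebraMapSubmonoid Ah (nonZeroDivisors A)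
  letI : Algebra Ah (FractionRing A ⊗[A] Ah) := Algebra.TensorProduct.rightAlgebra
  haveI : IsLocalization M (FractionRing A ⊗[A] Ah) := inferInstance
  haveI : IsReduced (FractionRing A ⊗[A] Ah) :=
    isReduced_localizationPreserves M (FractionRing A ⊗[A] Ah) ‹_›
  exact hz.eq_zero

end Groth.Agent.CAlgN2
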