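import Mathlib.RingTheory.AdicCompletion.Basic
import Mathlib.RingTheory.Finiteness.Basic

/-!
# Finiteness over a complete ring from finiteness modulo a principal ideal
-/

universe u

namespace Groth.Agent.CAlgN2

variable {R : Type u} [CommRing R] (x : R) [IsAdicComplete (Ideal.span {x}) R]

/-- A separated module generated modulo `x` by finitely many elements is finite. -/
theorem finite_of_complete {M : Type u} [AddCommGroup M] [Module R M]
    (hsep : ∀ z : M, (∀ k : ℕ, ∃ w, z = x ^ k • w) → z = 0) {m : ℕ} (g : Fin m → M)
    (hg : ∀ z : M, ∃ (c : Fin m → R) (w : M), z = ∑ i, c i • g i + x • w) :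
    Module.Finite R M := by
  choose c w hcw using hg
  refine Module.Finite.of_surjective (Fintype.linearCombination R g) fun z => ?_
  let it : ℕ → M := fun k => w^[k] z
  have hstep : ∀ k, it k = ∑ i, c (it k) i • g i + x • it (k + 1) := fun k => by
    rw [show it (k + 1) = w (it k) from Function.iterate_succ_apply' w k z]
    exact hcw (it k)
  let C : ℕ → Fin m → R := fun k i => ∑ j ∈ Finset.range k, x ^ j * c (it j) i
  have hC : ∀ k, z = ∑ i, C k i • g i + x ^ k • it k := by
    intro k
    induction k with
    | zero => simp [C, it]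
    | succ k ih =>
      conv_lhs => rw [ih, hstep k]
      simp only [C, Finset.sum_range_succ, add_smul, Finset.sum_add_distrib, smul_add, Finset.smul_sum,
        mul_smul, pow_succ, add_assoc]
  have hlim : ∀ i, ∃ L : R, ∀ k, x ^ k ∣ C k i - L := by
    intro i
    obtain ⟨L, hL⟩ := IsPrecomplete.prec (I := Ideal.span {x}) inferInstance (f := fun k => C k i) (by
      intro a b hab
      rw [smul_eq_mul, Ideal.mul_top, SModEq.sub_mem, Ideal.span_singleton_pow, Ideal.mem_span_singleton]
      induction b, hab using Nat.le_induction with
      | base => simp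
      | succ b hab ih =>
        rw [show C a i - C (b + 1) i = (C a i - C b i) - x ^ b * c (it b) i by
          simp only [C, Finset.sum_range_succ]; ring]
        exact dvd_sub ih (dvd_mul_of_dvd_left (pow_dvd_pow x hab) _))
    refine ⟨L, fun k => ?_⟩
    have := hL k
    rwa [smul_eq_mul, Ideal.mul_top, SModEq.sub_mem, Ideal.span_singleton_pow,
      Ideal.mem_span_singleton] at this
  choose L hL using hlim
  refine ⟨L, (sub_eq_zero.1 (hsep _ fun k => ?_)).symm⟩
  choose e he using fun i => hL i k
  refine ⟨it k + ∑ i, e i • g i, ?_⟩
  rw [smul_add, Finset.smul_sum, Fintype.linearCombination_apply]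
  conv_lhs => rw [hC k]
  rw [add_sub_right_comm, ← Finset.sum_sub_distrib, add_comm]
  congr 1
  exact Finset.sum_congr rfl fun i _ => by rw [← sub_smul, he i, mul_smul]

end Groth.Agent.CAlgN2
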