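import Groth.Agent.CAlgN2.AnUnram
import Mathlib.RingTheory.Ideal.AssociatedPrime.Finiteness
import Mathlib.RingTheory.Ideal.GoingUp
import Mathlib.Algebra.CharP.Lemmas

/-!
# Nagata local domains are analytically unramified
-/

universe u

open TensorProduct

namespace Groth.Agent.CAlgN2

/-- In a Noetherian domain, if `w p ⊆ π C` with `w ∉ p` then a power of `π` kills `x` outside `p`. -/
lemma exists_pow_mul_eq {C : Type u} [CommRing C] [IsDomain C] [IsNoetherianRing C] (p : Ideal C)
    [p.IsPrime] {w π x : C} (hx : x ≠ 0) (hw : w ∉ p) (hπ : π ∈ p)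
    (h : ∀ y ∈ p, ∃ v, w * y = π * v) : ∃ (n : ℕ) (v : C), v ∉ p ∧ x * w ^ n = π ^ n * v := by
  classical
  by_contra hno
  simp only [not_exists, not_and] at hno
  have hw0 : w ≠ 0 := fun e => hw (e ▸ p.zero_mem)
  choose g hg using h
  let step : C → C := fun y => if hy : y ∈ p then g y hy else 0
  let v : ℕ → C := fun n => step^[n] x
  have hv1 : ∀ n, v (n + 1) = step (v n) := fun n => Function.iterate_succ_apply' step n x
  have hall : ∀ n, v n ∈ p ∧ x * w ^ n = π ^ n * v n := by
    intro n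
    induction n with
    | zero =>
      have e : x * w ^ 0 = π ^ 0 * v 0 := by simp [v]
      exact ⟨by_contra fun hp => hno 0 _ hp e, e⟩
    | succ n ih =>
      have hs : w * v n = π * v (n + 1) := by
        rw [hv1, show step (v n) = g (v n) ih.1 from dif_pos ih.1]
        exact hg _ ih.1
      have e : x * w ^ (n + 1) = π ^ (n + 1) * v (n + 1) := by
        linear_combination w * ih.2 + π ^ n * hs
      exact ⟨by_contra fun hp => hno (n + 1) _ hp e, e⟩
  have hs : ∀ n, w * v n = π * v (n + 1) := fun n => by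
    rw [hv1, show step (v n) = g (v n) (hall n).1 from dif_pos (hall n).1]
    exact hg _ (hall n).1
  have hv0 : ∀ n, v n ≠ 0 := fun n e => by
    have := (hall n).2
    rw [e, mul_zero] at this
    exact mul_ne_zero hx (pow_ne_zero _ hw0) this
  let I : ℕ → Ideal C := fun n =>
    { carrier := {y | ∃ k, v n ∣ w ^ k * y}
      zero_mem' := ⟨0, by simp⟩
      add_mem' := by
        rintro a b ⟨k, hk⟩ ⟨l, hl⟩
        refine ⟨k + l, ?_⟩
        rw [show w ^ (k + l) * (a + b) = w ^ l * (w ^ k * a) + w ^ k * (w ^ l * b) by ring]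
        exact dvd_add (dvd_mul_of_dvd_right hk _) (dvd_mul_of_dvd_right hl _)
      smul_mem' := by
        rintro c a ⟨k, hk⟩
        exact ⟨k, by rw [smul_eq_mul, mul_left_comm]; exact dvd_mul_of_dvd_right hk _⟩ }
  have hmono : Monotone I := monotone_nat_of_le_succ fun n y hy => by
    obtain ⟨k, c, hc⟩ := hy
    exact ⟨k + 1, π * c, by linear_combination w * hc + c * hs n⟩
  obtain ⟨n, hn⟩ := monotone_stabilizes_iff_noetherian.2 (inferInstance : IsNoetherian C C)
    ⟨I, hmono⟩
  have hmem : v (n + 1) ∈ I n := by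
    have h' : I n = I (n + 1) := hn (n + 1) n.le_succ
    rw [h']
    exact ⟨0, by simp⟩
  obtain ⟨k, c, hc⟩ := hmem
  have : w ^ (k + 1) = π * c := mul_right_cancel₀ (hv0 n) (by
    linear_combination π * hc + w ^ k * hs n)
  exact hw ((inferInstance : p.IsPrime).mem_of_pow_mem (k + 1) (this ▸ p.mul_mem_right c hπ))

/-- An associated prime of `C/xC` is locally principal, witnessed by one element. -/
lemma exists_witness {C : Type u} [CommRing C] [IsDomain C] [IsIntegrallyClosed C]
    [IsNoetherianRing C] {x b₀ : C} (hx : x ≠ 0) (hb : ¬ x ∣ b₀) (p : Ideal C) [p.IsPrime]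
    (hp : ∀ r, r ∈ p ↔ x ∣ r * b₀) :
    ∃ w π : C, w ∉ p ∧ π ∈ p ∧ π ≠ 0 ∧ ∀ y ∈ p, ∃ v, w * y = π * v := by
  have key : ∃ π w : C, π ∈ p ∧ w ∉ p ∧ b₀ * π = x * w := by
    by_contra hno
    simp only [not_exists, not_and] at hno
    apply hb
    let f : C →ₗ[C] (FractionRing C) := Algebra.linearMap C (FractionRing C)
    have hxK : algebraMap C (FractionRing C) x ≠ 0 :=
      (map_ne_zero_iff _ (IsFractionRing.injective C (FractionRing C))).2 hx
    have hint : IsIntegral C (algebraMap C (FractionRing C) b₀ / algebraMap C (FractionRing C) x) := by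
      refine isIntegral_of_smul_mem_submodule (Submodule.map f p) ?_
        ((IsNoetherian.noetherian p).map f) _ ?_
      · intro e
        have : f x ∈ Submodule.map f p := Submodule.mem_map_of_mem ((hp x).2 (dvd_mul_right x b₀))
        rw [e, Submodule.mem_bot] at this
        exact hxK this
      · rintro _ ⟨π, hπ, rfl⟩
        obtain ⟨w, hw⟩ := (hp π).1 hπ
        have hwp : w ∈ p := by_contra fun hwp => hno π w hπ hwp (by rw [mul_comm, hw])
        refine ⟨w, hwp, ?_⟩
        have e := congrArg (algebraMap C (FractionRing C)) hw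
        rw [map_mul, map_mul] at e
        show algebraMap C (FractionRing C) w = algebraMap C (FractionRing C) b₀ / algebraMap C (FractionRing C) x * algebraMap C (FractionRing C) π
        field_simp
        linear_combination -e
    obtain ⟨c, hc⟩ := IsIntegrallyClosed.isIntegral_iff.1 hint
    refine ⟨c, IsFractionRing.injective C (FractionRing C) ?_⟩
    rw [map_mul, hc, mul_div_cancel₀ _ hxK]
  obtain ⟨π, w, hπ, hw, hπw⟩ := key
  refine ⟨w, π, hw, hπ, fun e => hw ?_, fun y hy => ?_⟩
  · rw [e, mul_zero] at hπw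
    rw [show w = 0 from (mul_eq_zero.1 hπw.symm).resolve_left hx]
    exact p.zero_mem
  · obtain ⟨v, hv⟩ := (hp y).1 hy
    exact ⟨v, mul_left_cancel₀ hx (by linear_combination π * hv - y * hπw)⟩

section Tensor

variable {R B C : Type u} [CommRing R] [CommRing B] [CommRing C] [Algebra R B] [Algebra R C]

lemma one_tmul_mul (s : C) (w : B ⊗[R] C) :
    ((1 : B) ⊗ₜ[R] s) * w = LinearMap.lTensor B (LinearMap.mulLeft R s) w := by
  induction w using TensorProduct.induction_on with
  | zero => simp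
  | tmul b c => simp [Algebra.TensorProduct.tmul_mul_tmul]
  | add a b ha hb => simp [mul_add, ha, hb]

lemma one_tmul_mul_injective [IsDomain C] [Module.Flat R B] {s : C} (hs : s ≠ 0) :
    Function.Injective (fun w : B ⊗[R] C => ((1 : B) ⊗ₜ[R] s) * w) := by
  simp only [one_tmul_mul]
  exact Module.Flat.lTensor_preserves_injective_linearMap _ fun a b h => mul_left_cancel₀ hs h

lemma one_tmul_pow (s : C) (n : ℕ) : ((1 : B) ⊗ₜ[R] s) ^ n = (1 : B) ⊗ₜ[R] (s ^ n) := by
  rw [Algebra.TensorProduct.tmul_pow, one_pow]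

lemma isNilpotent_of_mul [IsDomain C] [Module.Flat R B] {s t : C} (hs : s ≠ 0) {z z' : B ⊗[R] C}
    (hz : IsNilpotent z) (h : ((1 : B) ⊗ₜ[R] t) * z = ((1 : B) ⊗ₜ[R] s) * z') : IsNilpotent z' := by
  obtain ⟨n, hn⟩ := hz
  refine ⟨n, one_tmul_mul_injective (B := B) (pow_ne_zero n hs) ?_⟩
  show _ * z' ^ n = _ * (0 : B ⊗[R] C)
  rw [← one_tmul_pow, ← mul_pow, ← h, mul_pow, hn, mul_zero, mul_zero]

/-- Elements that vanish modulo an ideal `p` with `w p ⊆ π C`. -/
lemma exists_mul_of_map_eq_zero (p : Ideal C) {w π : C} (h : ∀ y ∈ p, ∃ v, w * y = π * v)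
    (z : B ⊗[R] C)
    (hz : Algebra.TensorProduct.map (AlgHom.id R B) (Ideal.Quotient.mkₐ R p) z = 0) :
    ∃ z₁, ((1 : B) ⊗ₜ[R] w) * z = ((1 : B) ⊗ₜ[R] π) * z₁ := by
  have hex : Function.Exact (p.restrictScalars R).subtype (Ideal.Quotient.mkₐ R p).toLinearMap :=
    fun y => by simp [Ideal.Quotient.eq_zero_iff_mem]
  obtain ⟨t, rfl⟩ := (lTensor_exact B hex
    (fun y => Ideal.Quotient.mk_surjective y) z).1 hz
  clear hz
  induction t using TensorProduct.induction_on with
  | zero => exact ⟨0, by simp⟩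
  | tmul b y =>
    obtain ⟨v, hv⟩ := h y.1 y.2
    exact ⟨b ⊗ₜ v, by simp [Algebra.TensorProduct.tmul_mul_tmul, hv]⟩
  | add a b ha hb =>
    obtain ⟨za, ha⟩ := ha
    obtain ⟨zb, hb⟩ := hb
    exact ⟨za + zb, by rw [map_add, mul_add, mul_add, ha, hb]⟩

/-- Cancel a nonzerodivisor of `C/xC`. -/
lemma mem_span_of_mul_mem [Module.Flat R B] {x s : C} (hs : ∀ b, x ∣ s * b → x ∣ b)
    {z : B ⊗[R] C} (h : ((1 : B) ⊗ₜ[R] s) * z ∈ Ideal.span {(1 : B) ⊗ₜ[R] x}) :
    z ∈ Ideal.span {(1 : B) ⊗ₜ[R] x} := by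
  let q := Ideal.Quotient.mkₐ R (Ideal.span {x})
  let F := Algebra.TensorProduct.map (AlgHom.id R B) q
  have hqx : F ((1 : B) ⊗ₜ[R] x) = 0 := by
    simp [F, q, Ideal.Quotient.eq_zero_iff_mem.2 (Ideal.mem_span_singleton_self x)]
  obtain ⟨w, hw⟩ := Ideal.mem_span_singleton'.1 h
  have h0 : ((1 : B) ⊗ₜ[R] q s) * F z = 0 := by
    have : F ((1 : B) ⊗ₜ[R] s) = (1 : B) ⊗ₜ[R] q s := by simp [F]
    rw [← this, ← map_mul, ← hw, map_mul, hqx, mul_zero]
  have hinj : Function.Injective (LinearMap.mulLeft R (q s)) := by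
    rw [injective_iff_map_eq_zero]
    intro a ha
    obtain ⟨b, rfl⟩ := Ideal.Quotient.mk_surjective a
    rw [LinearMap.mulLeft_apply, Ideal.Quotient.mkₐ_eq_mk, ← map_mul,
      Ideal.Quotient.eq_zero_iff_mem, Ideal.mem_span_singleton] at ha
    exact Ideal.Quotient.eq_zero_iff_mem.2 (Ideal.mem_span_singleton.2 (hs b ha))
  have hz : F z = 0 := by
    apply Module.Flat.lTensor_preserves_injective_linearMap (M := B) _ hinj
    rw [map_zero, ← one_tmul_mul, h0]
  obtain ⟨z₁, hz₁⟩ := exists_mul_of_map_eq_zero (w := 1) (π := x) (Ideal.span {x})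
    (fun y hy => by
      obtain ⟨v, hv⟩ := Ideal.mem_span_singleton.1 hy
      exact ⟨v, by rw [one_mul, hv]⟩) z hz
  rw [← Algebra.TensorProduct.one_def, one_mul] at hz₁
  exact Ideal.mem_span_singleton'.2 ⟨z₁, by rw [hz₁, mul_comm]⟩

end Tensor

section Main

open IsLocalRing

variable {R : Type u} [CommRing R] [IsLocalRing R] {B : Type u} [CommRing B] [Algebra R B]

omit [IsLocalRing R] in
/-- Nilpotents are divisible by `x`, if the associated primes of `C/xC` are locally principal. -/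
lemma nilpotent_mem_span' [Module.Flat R B] {C : Type u} [CommRing C] [IsDomain C]
    [IsNoetherianRing C] [Algebra R C] {x : C} (hx : x ≠ 0)
    (hwit : ∀ (p : Ideal C) [p.IsPrime] (b₀ : C), ¬ x ∣ b₀ → (∀ r, r ∈ p ↔ x ∣ r * b₀) →
      ∃ w π : C, w ∉ p ∧ π ∈ p ∧ π ≠ 0 ∧ ∀ y ∈ p, ∃ v, w * y = π * v)
    (hred : ∀ (p : Ideal C) (b₀ : C), p.IsPrime → (∀ r, r ∈ p ↔ x ∣ r * b₀) → x ∈ p →
      IsReduced (B ⊗[R] (C ⧸ p)))
    {z : B ⊗[R] C} (hz : IsNilpotent z) : z ∈ Ideal.span {(1 : B) ⊗ₜ[R] x} := by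
  classical
  let M := C ⧸ Ideal.span {x}
  let J : Ideal (B ⊗[R] C) := Submodule.comap (LinearMap.mulRight (B ⊗[R] C) z)
    (Ideal.span {(1 : B) ⊗ₜ[R] x})
  let S : Ideal C := Ideal.comap (Algebra.TensorProduct.includeRight : C →ₐ[R] B ⊗[R] C) J
  have hS : ∀ {s}, s ∈ S ↔ ((1 : B) ⊗ₜ[R] s) * z ∈ Ideal.span {(1 : B) ⊗ₜ[R] x} := Iff.rfl
  have hfin := associatedPrimes.finite C M
  have hnot : ∀ p ∈ associatedPrimes C M, ¬ S ≤ p := by
    intro p hp hle
    obtain ⟨hpp, y, hy⟩ := isAssociatedPrime_iff.1 hp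
    obtain ⟨b₀, rfl⟩ := Ideal.Quotient.mk_surjective y
    have hpr : ∀ r, r ∈ p ↔ x ∣ r * b₀ := fun r => by
      rw [hy, Submodule.mem_colon_singleton, Submodule.mem_bot, Algebra.smul_def,
        Ideal.Quotient.algebraMap_eq, ← map_mul, Ideal.Quotient.eq_zero_iff_mem,
        Ideal.mem_span_singleton]
    have hb : ¬ x ∣ b₀ := fun h =>
      hpp.ne_top ((Ideal.eq_top_iff_one _).2 ((hpr 1).2 (by rwa [one_mul])))
    obtain ⟨w, π, hw, hπ, hπ0, hwp⟩ := hwit p b₀ hb hpr
    obtain ⟨n, v, hv, hxv⟩ := exists_pow_mul_eq p hx hw hπ hwp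
    haveI := hred p b₀ hpp hpr ((hpr x).2 (dvd_mul_right x b₀))
    have step : ∀ k, ∃ z', IsNilpotent z' ∧
        ((1 : B) ⊗ₜ[R] (w ^ k)) * z = ((1 : B) ⊗ₜ[R] (π ^ k)) * z' := by
      intro k
      induction k with
      | zero => exact ⟨z, hz, by simp⟩
      | succ k ih =>
        obtain ⟨z', hz', e⟩ := ih
        obtain ⟨z₁, h₁⟩ := exists_mul_of_map_eq_zero p hwp z'
          (hz'.map (Algebra.TensorProduct.map (AlgHom.id R B) (Ideal.Quotient.mkₐ R p))).eq_zero
        refine ⟨z₁, isNilpotent_of_mul hπ0 hz' h₁, ?_⟩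
        rw [← one_tmul_pow, ← one_tmul_pow] at e ⊢
        linear_combination ((1 : B) ⊗ₜ[R] w) * e + ((1 : B) ⊗ₜ[R] π) ^ k * h₁
    obtain ⟨z', -, e⟩ := step n
    have hmem : v * w ^ n ∈ S := by
      refine hS.2 (Ideal.mem_span_singleton'.2 ⟨((1 : B) ⊗ₜ[R] (w ^ n)) * z', ?_⟩)
      have h1 : ((1 : B) ⊗ₜ[R] (v * w ^ n)) = ((1 : B) ⊗ₜ[R] v) * ((1 : B) ⊗ₜ[R] (w ^ n)) := by
        simp [Algebra.TensorProduct.tmul_mul_tmul]
      have h2 : ((1 : B) ⊗ₜ[R] x) * ((1 : B) ⊗ₜ[R] (w ^ n)) =
          ((1 : B) ⊗ₜ[R] (π ^ n)) * ((1 : B) ⊗ₜ[R] v) := by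
        simp [Algebra.TensorProduct.tmul_mul_tmul, hxv]
      rw [h1]
      linear_combination z' * h2 - ((1 : B) ⊗ₜ[R] v) * e
    rcases hpp.mem_or_mem (hle hmem) with h | h
    exacts [hv h, hw (hpp.mem_of_pow_mem n h)]
  obtain ⟨s, hsS, hs⟩ : ∃ s ∈ S, ∀ p ∈ associatedPrimes C M, s ∉ p := by
    by_contra hno
    push Not at hno
    obtain ⟨p, hp, hle⟩ := (S.subset_union_prime_finite hfin (f := id) ⊤ ⊤
      fun p hp _ _ => hp.isPrime).1 (fun s hs => by
        obtain ⟨p, hp, hsp⟩ := hno s hs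
        exact Set.mem_biUnion hp hsp)
    exact hnot p hp hle
  refine mem_span_of_mul_mem (fun b hb => ?_) (hS.1 hsS)
  by_contra hxb
  have hb0 : (Ideal.Quotient.mk _ b : M) ≠ 0 := fun e =>
    hxb (Ideal.mem_span_singleton.1 (Ideal.Quotient.eq_zero_iff_mem.1 e))
  obtain ⟨p, hp, hle⟩ := exists_le_isAssociatedPrime_of_isNoetherianRing C (Ideal.Quotient.mk _ b : M) hb0
  exact hs p hp (hle (Submodule.mem_colon_singleton.2 (by
    rw [Submodule.mem_bot, Algebra.smul_def, Ideal.Quotient.algebraMap_eq, ← map_mul,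
      Ideal.Quotient.eq_zero_iff_mem, Ideal.mem_span_singleton]
    exact hb)))

omit [IsLocalRing R] in
/-- Nilpotents are divisible by `x`, for normal `C`. -/
lemma nilpotent_mem_span [Module.Flat R B] {C : Type u} [CommRing C] [IsDomain C]
    [IsIntegrallyClosed C] [IsNoetherianRing C] [Algebra R C] {x : C} (hx : x ≠ 0)
    (hred : ∀ p : Ideal C, p.IsPrime → x ∈ p → IsReduced (B ⊗[R] (C ⧸ p)))
    {z : B ⊗[R] C} (hz : IsNilpotent z) : z ∈ Ideal.span {(1 : B) ⊗ₜ[R] x} :=
  nilpotent_mem_span' hx (fun p _ _ hb hp => exists_witness hx hb p hp)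
    (fun p _ hp _ hxp => hred p hp hxp) hz

/-- The inductive step, for normal `C`. -/
lemma isReduced_tensor_normal [IsNoetherianRing R] [Module.Flat R B] [IsNoetherianRing B]
    (hjac : ∀ r ∈ maximalIdeal R, algebraMap R B r ∈ Ideal.jacobson (⊥ : Ideal B))
    (hres : ∀ b : B, ∃ r : R, b - algebraMap R B r ∈ (maximalIdeal R).map (algebraMap R B))
    {C : Type u} [CommRing C] [IsDomain C] [Algebra R C] [Module.Finite R C] [IsIntegrallyClosed C]
    (hIH : ∀ (D : Type u) [CommRing D] [IsDomain D] [Algebra R D], Module.Finite R D →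
      RingHom.ker (algebraMap R C) < RingHom.ker (algebraMap R D) → IsReduced (B ⊗[R] D)) :
    IsReduced (B ⊗[R] C) := by
  haveI : IsNoetherianRing C := IsNoetherianRing.of_finite R C
  by_cases hq : maximalIdeal R ≤ RingHom.ker (algebraMap R C)
  · -- `C` is a field and `C → B ⊗ C` is surjective
    haveI : (RingHom.ker (algebraMap R C)).IsPrime := RingHom.ker_isPrime _
    have hqe : RingHom.ker (algebraMap R C) = maximalIdeal R :=
      le_antisymm (IsLocalRing.le_maximalIdeal Ideal.IsPrime.ne_top') hq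
    letI : Algebra (ResidueField R) C :=
      (Ideal.Quotient.lift (maximalIdeal R) (algebraMap R C) fun a ha => hq ha).toAlgebra
    haveI : IsScalarTower R (ResidueField R) C := IsScalarTower.of_algebraMap_eq fun r => rfl
    haveI : Module.Finite (ResidueField R) C := Module.Finite.of_restrictScalars_finite R _ C
    letI : Field C :=
      (isField_of_isIntegral_of_isField' (R := ResidueField R) (S := C) (Field.toIsField _)).toField
    have hkill : ∀ m ∈ (maximalIdeal R).map (algebraMap R B), ∀ c : C, m ⊗ₜ[R] c = 0 := by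
      intro m hm
      induction hm using Submodule.span_induction with
      | mem y hy =>
        obtain ⟨r, hr, rfl⟩ := hy
        intro c
        rw [Algebra.algebraMap_eq_smul_one, TensorProduct.smul_tmul, Algebra.smul_def,
          show algebraMap R C r = 0 from hq hr, zero_mul, TensorProduct.tmul_zero]
      | zero => simp
      | add a b _ _ ha hb => intro c; rw [TensorProduct.add_tmul, ha, hb, add_zero]
      | smul a y _ hy =>
        intro c
        rw [smul_eq_mul, show (a * y) ⊗ₜ[R] c = (a ⊗ₜ[R] (1 : C)) * (y ⊗ₜ[R] c) by simp, hy,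
          mul_zero]
    let f : C →+* B ⊗[R] C := (Algebra.TensorProduct.includeRight : C →ₐ[R] B ⊗[R] C).toRingHom
    have hsurj : Function.Surjective f := by
      intro w
      induction w using TensorProduct.induction_on with
      | zero => exact ⟨0, map_zero f⟩
      | tmul b c =>
        obtain ⟨r, hr⟩ := hres b
        refine ⟨r • c, ?_⟩
        show (1 : B) ⊗ₜ[R] (r • c) = b ⊗ₜ[R] c
        have := hkill _ hr c
        rw [TensorProduct.sub_tmul, sub_eq_zero] at this
        rw [this, ← TensorProduct.smul_tmul, Algebra.algebraMap_eq_smul_one]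
      | add a b ha hb =>
        obtain ⟨ca, rfl⟩ := ha
        obtain ⟨cb, rfl⟩ := hb
        exact ⟨ca + cb, map_add f ca cb⟩
    refine ⟨fun z hz => ?_⟩
    obtain ⟨c, rfl⟩ := hsurj z
    obtain ⟨n, hn⟩ := hz
    rw [← map_pow] at hn
    by_cases hc : c = 0
    · rw [hc, map_zero]
    · have h1 : (1 : B ⊗[R] C) = 0 := by
        rw [← map_one f, ← mul_inv_cancel₀ (pow_ne_zero n hc), map_mul, hn, zero_mul]
      rw [← mul_one (f c), h1, mul_zero]
  · obtain ⟨r, hrm, hrq⟩ := SetLike.not_le_iff_exists.1 hq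
    let x : C := algebraMap R C r
    have hx : x ≠ 0 := hrq
    have hred : ∀ p : Ideal C, p.IsPrime → x ∈ p → IsReduced (B ⊗[R] (C ⧸ p)) := by
      intro p hp hxp
      refine hIH (C ⧸ p) inferInstance (lt_of_le_of_ne ?_ ?_)
      · intro a ha
        rw [RingHom.mem_ker] at ha ⊢
        rw [IsScalarTower.algebraMap_apply R C (C ⧸ p), ha, map_zero]
      · intro e
        apply hrq
        rw [e, RingHom.mem_ker, IsScalarTower.algebraMap_apply R C (C ⧸ p)]
        exact Ideal.Quotient.eq_zero_iff_mem.2 hxp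
    haveI : IsNoetherianRing (B ⊗[R] C) := IsNoetherianRing.of_finite B _
    have hxjac : (1 : B) ⊗ₜ[R] x ∈ Ideal.jacobson (⊥ : Ideal (B ⊗[R] C)) := by
      refine Ideal.mem_sInf.2 fun {J} hJ => ?_
      haveI : J.IsMaximal := hJ.2
      haveI : (J.comap (algebraMap B (B ⊗[R] C))).IsMaximal :=
        Ideal.isMaximal_comap_of_isIntegral_of_isMaximal J
      have h1 : algebraMap R B r ∈ J.comap (algebraMap B (B ⊗[R] C)) :=
        Ideal.mem_sInf.1 (hjac r hrm) ⟨bot_le, inferInstance⟩
      have h2 : algebraMap B (B ⊗[R] C) (algebraMap R B r) = (1 : B) ⊗ₜ[R] x := by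
        rw [Algebra.TensorProduct.algebraMap_apply, Algebra.algebraMap_self_apply,
          Algebra.algebraMap_eq_smul_one, TensorProduct.smul_tmul, ← Algebra.algebraMap_eq_smul_one]
      rw [← h2]
      exact h1
    refine ⟨fun z hz => ?_⟩
    have hmem : ∀ n : ℕ, ∃ z', IsNilpotent z' ∧ z = ((1 : B) ⊗ₜ[R] x) ^ n * z' := by
      intro n
      induction n with
      | zero => exact ⟨z, hz, by simp⟩
      | succ n ih =>
        obtain ⟨z', hz', rfl⟩ := ih
        obtain ⟨z₁, h₁⟩ := Ideal.mem_span_singleton'.1 (nilpotent_mem_span hx hred hz')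
        refine ⟨z₁, isNilpotent_of_mul hx (t := 1) hz' ?_, ?_⟩
        · rw [← Algebra.TensorProduct.one_def, one_mul, ← h₁, mul_comm]
        · rw [pow_succ, mul_assoc, mul_comm _ z₁, h₁]
    have := Ideal.iInf_pow_smul_eq_bot_of_le_jacobson (M := B ⊗[R] C) _
      ((Ideal.span_singleton_le_iff_mem _).2 hxjac)
    rw [← Submodule.mem_bot (B ⊗[R] C), ← this, Submodule.mem_iInf]
    intro n
    obtain ⟨z', -, e⟩ := hmem n
    rw [smul_eq_mul, Ideal.mul_top, e]
    exact Ideal.mul_mem_right _ _ (Ideal.pow_mem_pow (Ideal.mem_span_singleton_self _) n)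

/-- Finite domains over a Nagata local ring stay reduced after a good flat base change. -/
theorem isReduced_tensor_of_nagata (hN : CAlg.IsNagata R) [Module.Flat R B] [IsNoetherianRing B]
    (hjac : ∀ r ∈ maximalIdeal R, algebraMap R B r ∈ Ideal.jacobson (⊥ : Ideal B))
    (hres : ∀ b : B, ∃ r : R, b - algebraMap R B r ∈ (maximalIdeal R).map (algebraMap R B)) :
    ∀ (C : Type u) [CommRing C] [IsDomain C] [Algebra R C], Module.Finite R C →
      IsReduced (B ⊗[R] C) := by
  haveI := hN.1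
  suffices key : ∀ (q : Ideal R) (C : Type u) [CommRing C] [IsDomain C] [Algebra R C],
      Module.Finite R C → RingHom.ker (algebraMap R C) = q → IsReduced (B ⊗[R] C) from
    fun C _ _ _ h => key _ C h rfl
  intro q
  induction q using WellFoundedGT.induction with
  | ind q ih =>
    intro C _ _ _ hC hker
    haveI : q.IsPrime := hker ▸ RingHom.ker_isPrime _
    letI : Algebra (R ⧸ q) C :=
      (Ideal.Quotient.lift q (algebraMap R C) fun a ha => by
        rwa [← hker, RingHom.mem_ker] at ha).toAlgebra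
    haveI : IsScalarTower R (R ⧸ q) C := IsScalarTower.of_algebraMap_eq fun r => rfl
    haveI : Module.Finite (R ⧸ q) C := Module.Finite.of_restrictScalars_finite R _ C
    have hN2 : CAlg.IsN2 C := isN2_of_finite (R ⧸ q) C
      ((injective_iff_map_eq_zero _).2 fun a ha => by
        obtain ⟨r, rfl⟩ := Ideal.Quotient.mk_surjective a
        exact Ideal.Quotient.eq_zero_iff_mem.2 (hker ▸ RingHom.mem_ker.2 ha)) (hN.2 q)
    haveI : Module.Finite C (integralClosure C (FractionRing C)) := isN1_of_isN2 C hN2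
    haveI : Module.Finite R (integralClosure C (FractionRing C)) := Module.Finite.trans C _
    haveI : IsIntegrallyClosed (integralClosure C (FractionRing C)) :=
      integralClosure.isIntegrallyClosedOfFiniteExtension (FractionRing C)
    let ι : C →ₐ[R] integralClosure C (FractionRing C) :=
      IsScalarTower.toAlgHom R C (integralClosure C (FractionRing C))
    have hι : Function.Injective ι := fun a b h =>
      IsFractionRing.injective C (FractionRing C) (congrArg Subtype.val h)
    have hk : RingHom.ker (algebraMap R (integralClosure C (FractionRing C))) = q := by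
      rw [← hker]
      ext a
      rw [RingHom.mem_ker, RingHom.mem_ker, ← ι.commutes, map_eq_zero_iff _ hι]
    haveI : IsReduced (B ⊗[R] integralClosure C (FractionRing C)) :=
      isReduced_tensor_normal hjac hres fun D _ _ _ hD hlt => ih _ (hk ▸ hlt) D hD rfl
    exact isReduced_of_injective (Algebra.TensorProduct.map (AlgHom.id R B) ι)
      (Module.Flat.lTensor_preserves_injective_linearMap (M := B) ι.toLinearMap hι)

end Main

open IsLocalRing

variable {R : Type u} [CommRing R] [IsLocalRing R]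

/-- Finite domains over a Nagata local ring stay reduced after completion. -/
theorem isReduced_completion_tensor (hN : CAlg.IsNagata R) (C : Type u) [CommRing C] [IsDomain C]
    [Algebra R C] [Module.Finite R C] :
    IsReduced (AdicCompletion (maximalIdeal R) R ⊗[R] C) := by
  haveI := hN.1
  haveI : Module.FaithfullyFlat R (AdicCompletion (maximalIdeal R) R) :=
    faithfullyFlat_completion R
  refine isReduced_tensor_of_nagata hN (fun r hr => maximalIdeal_le_jacobson _ ?_) (fun b => ?_) C ‹_›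
  · rw [AdicCompletion.maximalIdeal_eq_map]
    exact Ideal.mem_map_of_mem _ hr
  · obtain ⟨y, hy⟩ := (AdicCompletion.residueField_map_bijective R).2 (residue _ b)
    obtain ⟨r, rfl⟩ := residue_surjective y
    refine ⟨r, ?_⟩
    rw [← AdicCompletion.maximalIdeal_eq_map, ← residue_eq_zero_iff, map_sub, ← hy,
      ResidueField.map_residue, sub_self]

/-- A Nagata local domain is analytically unramified. -/
theorem isReduced_completion_of_nagata [IsDomain R] (hN : CAlg.IsNagata R) :
    IsReduced (AdicCompletion (maximalIdeal R) R) := by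
  haveI := isReduced_completion_tensor hN R
  exact isReduced_of_injective
    (Algebra.TensorProduct.rid R R (AdicCompletion (maximalIdeal R) R)).symm
    (Algebra.TensorProduct.rid R R _).symm.injective

/-- In a Nagata local domain of characteristic `p`, `p`-th roots descend from the completion. -/
theorem exists_root_of_nagata [IsDomain R] (hN : CAlg.IsNagata R) (p : ℕ) [Fact p.Prime] [CharP R p]
    (a : R) (h : ∃ α : AdicCompletion (maximalIdeal R) R,
      α ^ p = algebraMap R (AdicCompletion (maximalIdeal R) R) a) :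
    ∃ b : R, b ^ p = a := by
  haveI := hN.1
  obtain ⟨α, hα⟩ := h
  let Rh := AdicCompletion (maximalIdeal R) R
  let K := AlgebraicClosure (FractionRing R)
  have hinjK : Function.Injective (algebraMap R K) := by
    rw [IsScalarTower.algebraMap_eq R (FractionRing R) K]
    exact (algebraMap (FractionRing R) K).injective.comp (IsFractionRing.injective R _)
  obtain ⟨β, hβ⟩ := IsAlgClosed.exists_pow_nat_eq (algebraMap R K a) (Fact.out : p.Prime).pos
  have hβint : IsIntegral R β := ⟨Polynomial.X ^ p - Polynomial.C a,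
    Polynomial.monic_X_pow_sub_C a (Fact.out : p.Prime).ne_zero, by simp [hβ]⟩
  let C := Algebra.adjoin R ({β} : Set K)
  haveI : Module.Finite R C := Module.Finite.iff_fg.2 hβint.fg_adjoin_singleton
  haveI : IsReduced (Rh ⊗[R] C) := isReduced_completion_tensor hN C
  let b : C := ⟨β, Algebra.self_mem_adjoin_singleton R β⟩
  have hb : b ^ p = algebraMap R C a := Subtype.ext hβ
  have hp0 : (p : Rh ⊗[R] C) = 0 := by
    rw [← map_natCast (algebraMap R (Rh ⊗[R] C)), CharP.cast_eq_zero, map_zero]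
  have heq : α ⊗ₜ[R] (1 : C) = (1 : Rh) ⊗ₜ[R] b := by
    refine sub_eq_zero.1 (IsNilpotent.eq_zero ⟨p, ?_⟩)
    obtain ⟨r, hr⟩ := exists_add_pow_prime_eq (Fact.out : p.Prime)
      ((1 : Rh) ⊗ₜ[R] b) (α ⊗ₜ[R] (1 : C) - (1 : Rh) ⊗ₜ[R] b)
    rw [add_sub_cancel, hp0] at hr
    have e1 : (α ⊗ₜ[R] (1 : C)) ^ p = ((1 : Rh) ⊗ₜ[R] b) ^ p := by
      rw [Algebra.TensorProduct.tmul_pow, Algebra.TensorProduct.tmul_pow, one_pow, one_pow, hα, hb,
        Algebra.algebraMap_eq_smul_one, Algebra.algebraMap_eq_smul_one, TensorProduct.smul_tmul]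
    linear_combination (-1 : Rh ⊗[R] C) * hr + e1
  let N : Submodule R C := LinearMap.range (Algebra.linearMap R C)
  have hbN : b ∈ N := by
    rw [← Submodule.Quotient.mk_eq_zero N]
    haveI : Module.FaithfullyFlat R Rh := faithfullyFlat_completion R
    apply Module.FaithfullyFlat.tensorProduct_mk_injective (A := R) (B := Rh) (C ⧸ N)
    show (1 : Rh) ⊗ₜ[R] N.mkQ b = (1 : Rh) ⊗ₜ[R] (0 : C ⧸ N)
    have := congrArg (LinearMap.lTensor Rh N.mkQ) heq
    rw [LinearMap.lTensor_tmul, LinearMap.lTensor_tmul] at this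
    rw [← this, (Submodule.Quotient.mk_eq_zero N).2 ⟨1, map_one (algebraMap R C)⟩ |> (fun e => (show N.mkQ 1 = 0 from e)),
      TensorProduct.tmul_zero, TensorProduct.tmul_zero]
  obtain ⟨b₀, hb₀⟩ := hbN
  refine ⟨b₀, hinjK ?_⟩
  rw [map_pow, ← hβ, show algebraMap R K b₀ = β from congrArg Subtype.val hb₀]

end Groth.Agent.CAlgN2
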