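import Groth.Prelude.Def_Found
import Mathlib.FieldTheory.IntermediateField.Adjoin.Basic
import Mathlib.LinearAlgebra.Dimension.StrongRankCondition
import Mathlib.RingTheory.AdicCompletion.Basic

/-!
# Finite extensions from rank bounds; lifting linear independence
-/

universe u

namespace Groth.Agent.CAlgN2

variable {R' T : Type u} [CommRing R'] [IsDomain R'] [IsNoetherianRing R'] [CommRing T] [IsDomain T]
  [Algebra R' T] [Algebra.IsIntegral R' T]

/-- An integral extension domain of bounded rank of an N-2 domain is finite. -/
theorem finite_of_rank_bound (hinj : Function.Injective (algebraMap R' T)) (h2 : CAlg.IsN2 R') (d : ℕ)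
    (hd : ∀ (G : Type u) [Fintype G] (v : G → T), LinearIndependent R' v → Fintype.card G ≤ d) :
    Module.Finite R' T := by
  let M := FractionRing T
  haveI : FaithfulSMul R' M := (faithfulSMul_iff_algebraMap_injective R' M).2 (by
    rw [IsScalarTower.algebraMap_eq R' T M]
    exact (IsFractionRing.injective T M).comp hinj)
  letI : Algebra (FractionRing R') M := FractionRing.liftAlgebra R' M
  let π : T →ₐ[R'] M := IsScalarTower.toAlgHom R' T M
  have hπint : ∀ s : T, IsIntegral R' (π s) := fun s => (Algebra.IsIntegral.isIntegral s).map π
  obtain ⟨B, hBt, hBspan, hBli⟩ := exists_linearIndependent (FractionRing R') (Set.range π)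
  have hbound : ∀ G : Finset M, (G : Set M) ⊆ B → G.card ≤ d := by
    intro G hG
    choose s hs using fun g : G => hBt (hG g.2)
    have h1 : LinearIndependent (FractionRing R') (fun g : G => (g.1 : M)) :=
      hBli.comp (fun g : G => (⟨g.1, hG g.2⟩ : B))
        fun a b h => Subtype.ext (congrArg (fun t : B => t.1) h)
    have h2 : LinearIndependent R' (π.toLinearMap ∘ s) := by
      rw [show π.toLinearMap ∘ s = fun g : G => (g.1 : M) from funext hs]
      exact (LinearIndependent.iff_fractionRing R' (FractionRing R')).2 h1
    simpa using hd G s h2.of_comp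
  have hBfin : B.Finite := by
    by_contra hinf
    obtain ⟨G, hG, hcard⟩ := Set.Infinite.exists_subset_card_eq hinf (d + 1)
    have := hbound G hG
    omega
  let E : IntermediateField (FractionRing R') M := IntermediateField.adjoin _ B
  haveI := hBfin.to_subtype
  haveI : FiniteDimensional (FractionRing R') E :=
    IntermediateField.finiteDimensional_adjoin (S := B) (fun b hb => by
      obtain ⟨s, rfl⟩ := hBt hb
      exact (hπint s).tower_top)
  have hπE : ∀ s, π s ∈ E := by
    intro s
    have : π s ∈ Submodule.span (FractionRing R') B := by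
      rw [hBspan]; exact Submodule.subset_span ⟨s, rfl⟩
    exact (Submodule.span_le.2 fun b hb => show b ∈ Subalgebra.toSubmodule E.toSubalgebra from
      IntermediateField.subset_adjoin _ _ hb) this
  have hE : E = ⊤ := by
    refine eq_top_iff.2 fun z _ => ?_
    obtain ⟨a, b, -, rfl⟩ := IsFractionRing.div_surjective T z
    exact div_mem (hπE a) (hπE b)
  haveI : FiniteDimensional (FractionRing R') M := by
    haveI : FiniteDimensional (FractionRing R') (⊤ : IntermediateField (FractionRing R') M) :=
      hE ▸ ‹FiniteDimensional (FractionRing R') E›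
    exact Module.Finite.equiv (IntermediateField.topEquiv (F := FractionRing R') (E := M)).toLinearEquiv
  haveI : Module.Finite R' (integralClosure R' M) := h2 M ‹_›
  let ι : T →ₗ[R'] integralClosure R' M := π.toLinearMap.codRestrict
    (Subalgebra.toSubmodule (integralClosure R' M)) hπint
  exact Module.Finite.of_injective ι fun a b h =>
    IsFractionRing.injective T M (congrArg (fun z => z.1) h)

/-- Linear independence modulo a principal ideal lifts. -/
theorem linearIndependent_of_mod {R S : Type u} [CommRing R] [CommRing S] [Algebra R S] (x : R)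
    [IsHausdorff (Ideal.span {x}) R] (htf : ∀ (n : ℕ) (z : S), x ^ n • z = 0 → z = 0) (J : Ideal S)
    [J.LiesOver (Ideal.span ({x} : Set R))] {G : Type u} [Fintype G] (v : G → S)
    (h : LinearIndependent (R ⧸ Ideal.span ({x} : Set R)) (fun g => Ideal.Quotient.mk J (v g))) :
    LinearIndependent R v := by
  rw [Fintype.linearIndependent_iff] at h ⊢
  intro c hc g
  suffices H : ∀ (n : ℕ) g, x ^ n ∣ c g by
    refine IsHausdorff.haus (I := Ideal.span {x}) inferInstance (c g) fun n => ?_
    rw [smul_eq_mul, Ideal.mul_top, SModEq.zero, Ideal.span_singleton_pow, Ideal.mem_span_singleton]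
    exact H n g
  intro n
  induction n with
  | zero => simp
  | succ n ih =>
    choose e he using ih
    have hes : ∑ g, e g • v g = 0 := htf n _ (by
      rw [Finset.smul_sum, ← hc]
      exact Finset.sum_congr rfl fun g _ => by rw [he g, mul_smul])
    have h0 := h (fun g => Ideal.Quotient.mk _ (e g)) (by
      have := congrArg (Ideal.Quotient.mkₐ R J) hes
      rw [map_sum, map_zero] at this
      refine (Finset.sum_congr rfl fun g _ => ?_).trans this
      rw [map_smul]
      exact algebraMap_smul (R ⧸ Ideal.span ({x} : Set R)) (e g) (Ideal.Quotient.mk J (v g)))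
    intro g
    obtain ⟨r, hr⟩ := Ideal.mem_span_singleton.1 (Ideal.Quotient.eq_zero_iff_mem.1 (h0 g))
    exact ⟨r, by rw [he g, hr]; ring⟩

end Groth.Agent.CAlgN2
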