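import Groth.Agent.CAlgN2.Insep
import Groth.Agent.CAlgN2.Complete
import Groth.Agent.CAlgN2.Residue
import Groth.Agent.N2Lib.Basic
import Groth.Agent.N2Poly.More

/-!
# Tate's theorem
-/

universe u

namespace Groth.Agent.CAlgN2

variable {R : Type u} [CommRing R] [IsDomain R] [IsNoetherianRing R] [IsIntegrallyClosed R] (x : R)
  [hP : (Ideal.span ({x} : Set R)).IsPrime] [IsAdicComplete (Ideal.span ({x} : Set R)) R]

/-- The quotient by a prime over `(x)` is finite. -/
theorem finite_quotient {S : Type u} [CommRing S] [IsDomain S] [Algebra R S] [Algebra.IsIntegral R S]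
    (hx : x ≠ 0) (h2 : CAlg.IsN2 (R ⧸ Ideal.span ({x} : Set R))) (J : Ideal S) [J.IsPrime]
    [J.LiesOver (Ideal.span ({x} : Set R))] (hinj : Function.Injective (algebraMap R S)) (d : ℕ)
    (hd : ∀ (G : Type u) [Fintype G] (v : G → S), LinearIndependent R v → Fintype.card G ≤ d) :
    Module.Finite R (S ⧸ J) := by
  haveI : IsDomain (S ⧸ J) := Ideal.Quotient.isDomain J
  haveI : Algebra.IsIntegral R (S ⧸ J) := Algebra.IsIntegral.of_surjective (Ideal.Quotient.mkₐ R J)
    Ideal.Quotient.mk_surjective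
  haveI : IsScalarTower R (R ⧸ Ideal.span ({x} : Set R)) (S ⧸ J) :=
    IsScalarTower.of_algebraMap_eq fun r => rfl
  haveI : Algebra.IsIntegral (R ⧸ Ideal.span ({x} : Set R)) (S ⧸ J) :=
    Algebra.IsIntegral.tower_top (R := R)
  have hinjQ : Function.Injective (algebraMap (R ⧸ Ideal.span ({x} : Set R)) (S ⧸ J)) := by
    intro a b h
    obtain ⟨a, rfl⟩ := Ideal.Quotient.mk_surjective a
    obtain ⟨b, rfl⟩ := Ideal.Quotient.mk_surjective b
    have hov : Ideal.span ({x} : Set R) = J.under R := Ideal.LiesOver.over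
    rw [Ideal.Quotient.eq, hov, Ideal.under_def, Ideal.mem_comap, map_sub]
    exact Ideal.Quotient.eq.1 h
  haveI : Module.Finite (R ⧸ Ideal.span ({x} : Set R)) (S ⧸ J) := by
    refine finite_of_rank_bound (R' := R ⧸ Ideal.span ({x} : Set R)) (T := S ⧸ J) hinjQ h2 d fun G _ v hv => ?_
    choose w hw using fun g => Ideal.Quotient.mk_surjective (v g)
    refine hd G w (linearIndependent_of_mod x (fun n z h => ?_) J w (by simpa only [hw] using hv))
    rw [Algebra.smul_def] at h
    exact (mul_eq_zero.1 h).resolve_left ((map_ne_zero_iff _ hinj).2 (pow_ne_zero n hx))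
  exact Module.Finite.trans (R ⧸ Ideal.span ({x} : Set R)) _

omit [IsDomain R] [IsNoetherianRing R] [IsIntegrallyClosed R] hP in
/-- From finiteness modulo a root of `x` to finiteness. -/
theorem finite_of_root {S : Type u} [CommRing S] [Algebra R S] (yS : S) {q : ℕ}
    (hyq : yS ^ q = algebraMap R S x) [Module.Finite R (S ⧸ Ideal.span ({yS} : Set S))]
    (hsep : ∀ z : S, (∀ k : ℕ, ∃ w, z = x ^ k • w) → z = 0) : Module.Finite R S := by
  let J : Ideal S := Ideal.span {yS}
  obtain ⟨m, g, hg⟩ := Module.Finite.exists_fin (R := R) (M := S ⧸ J)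
  choose g' hg' using fun i => Ideal.Quotient.mk_surjective (g i)
  have hmod : ∀ z : S, ∃ c : Fin m → R, ∃ w : S, z = ∑ i, c i • g' i + yS * w := by
    intro z
    have hz : Ideal.Quotient.mk J z ∈ Submodule.span R (Set.range g) := hg ▸ Submodule.mem_top
    obtain ⟨c, hc⟩ := (Submodule.mem_span_range_iff_exists_fun R).1 hz
    refine ⟨c, ?_⟩
    have : z - ∑ i, c i • g' i ∈ J := by
      rw [← Ideal.Quotient.eq, ← hc]
      show _ = Ideal.Quotient.mkₐ R J (∑ i, c i • g' i)
      rw [map_sum]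
      exact Finset.sum_congr rfl fun i _ => by rw [map_smul, ← hg' i]; rfl
    obtain ⟨w, hw⟩ := Ideal.mem_span_singleton.1 this
    exact ⟨w, (eq_add_of_sub_eq' hw)⟩
  have hmodk : ∀ (k : ℕ) (z : S), ∃ c : Fin k × Fin m → R, ∃ w : S,
      z = ∑ i, c i • (yS ^ (i.1 : ℕ) * g' i.2) + yS ^ k * w := by
    intro k
    induction k with
    | zero => exact fun z => ⟨fun i => i.1.elim0, z, by simp⟩
    | succ k ih =>
      intro z
      obtain ⟨c, w, hz⟩ := ih z
      obtain ⟨d, w', hw⟩ := hmod w
      refine ⟨fun i => if h : (i.1 : ℕ) < k then c (⟨i.1, h⟩, i.2) else d i.2, w', ?_⟩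
      rw [hz, hw, Fintype.sum_prod_type, Fintype.sum_prod_type, Fin.sum_univ_castSucc, mul_add,
        Finset.mul_sum, pow_succ, mul_assoc, add_assoc]
      simp
  let e : Fin (q * m) ≃ Fin q × Fin m := finProdFinEquiv.symm
  refine finite_of_complete x hsep (fun i => yS ^ ((e i).1 : ℕ) * g' (e i).2) fun z => ?_
  obtain ⟨c, w, hz⟩ := hmodk q z
  refine ⟨fun i => c (e i), w, ?_⟩
  rw [hz, hyq, ← Algebra.smul_def]
  exact congrArg (· + x • w) (Fintype.sum_equiv e.symm _ _ fun i => by simp)

theorem tate_core (hx : x ≠ 0) (h2 : CAlg.IsN2 (R ⧸ Ideal.span ({x} : Set R))) {L : Type u} [Field L]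
    [Algebra R L] [Algebra (FractionRing R) L] [IsScalarTower R (FractionRing R) L]
    [FiniteDimensional (FractionRing R) L] {q : ℕ} (hq : 0 < q)
    (hL : ∀ z : L, ∃ c : FractionRing R, algebraMap (FractionRing R) L c = z ^ q)
    (y : L) (hy : y ^ q = algebraMap R L x) :
    Module.Finite R (integralClosure R L) := by
  classical
  let F := FractionRing R
  let P : Ideal R := Ideal.span {x}
  let S := integralClosure R L
  have hRL : Function.Injective (algebraMap R L) := by
    rw [IsScalarTower.algebraMap_eq R F L]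
    exact (algebraMap F L).injective.comp (IsFractionRing.injective R F)
  have hy0 : y ≠ 0 := fun h => hx (hRL (by rw [← hy, h, zero_pow hq.ne', map_zero]))
  -- the `q`-th power of an integral element lies in `R`
  have hpow : ∀ z : L, IsIntegral R z → ∃ r : R, algebraMap R L r = z ^ q := by
    intro z hz
    obtain ⟨c, hc⟩ := hL z
    obtain ⟨r, hr⟩ := IsIntegrallyClosed.isIntegral_iff.1
      ((isIntegral_algebraMap_iff (A := F) (algebraMap F L).injective).1 (hc.symm ▸ hz.pow q))
    exact ⟨r, by rw [IsScalarTower.algebraMap_apply R F L, hr, hc]⟩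
  have hint : ∀ (z : L) (r : R), z ^ q = algebraMap R L r → IsIntegral R z := fun z r h =>
    IsIntegral.of_pow hq (h ▸ isIntegral_algebraMap)
  choose ρ hρ using fun s : S => hpow s.1 s.2
  have hρmul : ∀ a b : S, ρ (a * b) = ρ a * ρ b := fun a b => hRL (by
    rw [hρ, map_mul, hρ, hρ, Subalgebra.coe_mul, mul_pow])
  let yS : S := ⟨y, hint y x hy⟩
  let J : Ideal S := Ideal.span {yS}
  have hρy : ρ yS = x := hRL (by rw [hρ]; exact hy)
  have hJ : ∀ s : S, s ∈ J ↔ ρ s ∈ P := by
    intro s
    rw [Ideal.mem_span_singleton, Ideal.mem_span_singleton]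
    constructor
    · rintro ⟨c, rfl⟩
      exact ⟨ρ c, by rw [hρmul, hρy]⟩
    · rintro ⟨r, hr⟩
      refine ⟨⟨s.1 / y, hint _ r ?_⟩, Subtype.ext ?_⟩
      · rw [div_pow, div_eq_iff (pow_ne_zero _ hy0), ← hρ s, hr, hy, map_mul, mul_comm]
      · exact (mul_div_cancel₀ s.1 hy0).symm
  haveI hJp : J.IsPrime := by
    refine ⟨fun h => ?_, fun {a b} hab => ?_⟩
    · have h1 : ρ 1 = 1 := hRL (by rw [hρ, map_one]; exact one_pow q)
      exact hP.ne_top ((Ideal.eq_top_iff_one _).2 (h1 ▸ (hJ 1).1 (h ▸ Submodule.mem_top)))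
    · rw [hJ, hρmul] at hab
      rw [hJ, hJ]
      exact hP.mem_or_mem hab
  have hover : J.under R = P := by
    ext r
    rw [Ideal.under_def, Ideal.mem_comap, hJ]
    have : ρ (algebraMap R S r) = r ^ q := hRL (by rw [hρ, map_pow]; rfl)
    rw [this]
    exact ⟨hP.mem_of_pow_mem q, fun h => Ideal.pow_mem_of_mem _ h q hq⟩
  haveI : J.LiesOver P := ⟨hover.symm⟩
  haveI : Algebra.IsIntegral R S := inferInstance
  haveI : Module.Finite R (S ⧸ Ideal.span ({yS} : Set S)) := finite_quotient x hx h2 J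
    (fun a b h => hRL (congrArg (fun z : S => z.1) h)) (Module.finrank F L) fun G _ v hv =>
      ((LinearIndependent.iff_fractionRing R F).1
        (hv.map' S.val.toLinearMap (LinearMap.ker_eq_bot.2 Subtype.val_injective))).fintype_card_le_finrank
  refine finite_of_root x yS (Subtype.ext hy : yS ^ q = algebraMap R S x) fun z hz => ?_
  have hz0 : ρ z = 0 := IsHausdorff.haus (I := P) inferInstance (ρ z) fun k => by
    rw [smul_eq_mul, Ideal.mul_top, SModEq.zero, Ideal.span_singleton_pow, Ideal.mem_span_singleton]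
    obtain ⟨w, rfl⟩ := hz k
    refine Dvd.intro (x ^ (k * (q - 1)) * ρ w) (hRL ?_)
    rw [hρ, map_mul, map_mul, map_pow, map_pow, hρ]
    rw [SetLike.val_smul, Algebra.smul_def, mul_pow, map_pow, ← pow_mul, ← mul_assoc, ← pow_add]
    congr 2
    obtain ⟨j, rfl⟩ := Nat.exists_eq_succ_of_ne_zero hq.ne'
    rw [Nat.succ_sub_one, Nat.succ_eq_add_one, Nat.mul_add, mul_one, add_comm]
  exact Subtype.ext (pow_eq_zero_iff hq.ne' |>.1 (by rw [← hρ z, hz0, map_zero]))

/-- Tate's theorem. -/
theorem isN2_of_complete_of_quotient (h2 : CAlg.IsN2 (R ⧸ Ideal.span ({x} : Set R))) :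
    CAlg.IsN2 R := by
  classical
  by_cases hx : x = 0
  · have e : Ideal.span ({x} : Set R) = ⊥ := by rw [hx, Ideal.span_singleton_zero]
    exact N2Poly.isN2_of_ringEquiv ((Ideal.quotEquivOfEq e).trans (RingEquiv.quotientBot R)) h2
  refine isN2_of_purelyInseparable R fun K' _ _ _ _ _ _ => ?_
  let F := FractionRing R
  let Ω := AlgebraicClosure K'
  let p := ringExpChar F
  let _ : ExpChar Ω p := expChar_of_injective_algebraMap (algebraMap F Ω).injective p
  let b := Module.finBasis F K'
  choose n hn using fun i => IsPurelyInseparable.pow_mem F p (b i)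
  let N := Finset.univ.sup n
  have hq : 0 < p ^ N := pow_pos (expChar_pos F p) N
  let φ : Ω →+* Ω := iterateFrobenius Ω p N
  have hφ : ∀ z, φ z = z ^ p ^ N := fun z => iterateFrobenius_def ..
  obtain ⟨y, hy⟩ := IsAlgClosed.exists_pow_nat_eq (algebraMap R Ω x) hq
  let T : Set Ω := insert y (Set.range fun i => algebraMap K' Ω (b i))
  have hT : ∀ z ∈ T, ∃ c : F, algebraMap F Ω c = z ^ p ^ N := by
    rintro z (rfl | ⟨i, rfl⟩)
    · exact ⟨algebraMap R F x, by rw [hy, ← IsScalarTower.algebraMap_apply]⟩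
    · obtain ⟨c, hc⟩ := hn i
      obtain ⟨k, hk⟩ := Nat.exists_eq_add_of_le (Finset.le_sup (f := n) (Finset.mem_univ i))
      refine ⟨c ^ p ^ k, ?_⟩
      rw [map_pow, IsScalarTower.algebraMap_apply F K' Ω, hc, ← map_pow, ← pow_mul, ← pow_add, ← hk,
        map_pow]
  let L : IntermediateField F Ω := IntermediateField.adjoin F T
  have hL : ∀ z : L, ∃ c : F, algebraMap F L c = z ^ p ^ N := by
    rintro ⟨z, hz⟩
    suffices h : ∃ c : F, algebraMap F Ω c = z ^ p ^ N by
      obtain ⟨c, hc⟩ := h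
      exact ⟨c, Subtype.ext hc⟩
    induction hz using IntermediateField.adjoin_induction with
    | mem z hz => exact hT z hz
    | algebraMap c => exact ⟨c ^ p ^ N, map_pow _ _ _⟩
    | add a b _ _ ha hb =>
      obtain ⟨c, hc⟩ := ha
      obtain ⟨d, hd⟩ := hb
      exact ⟨c + d, by rw [map_add, hc, hd, ← hφ, ← hφ, ← hφ, map_add]⟩
    | inv a _ ha =>
      obtain ⟨c, hc⟩ := ha
      exact ⟨c⁻¹, by rw [map_inv₀, hc, inv_pow]⟩
    | mul a b _ _ ha hb =>
      obtain ⟨c, hc⟩ := ha
      obtain ⟨d, hd⟩ := hb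
      exact ⟨c * d, by rw [map_mul, hc, hd, mul_pow]⟩
  haveI : Finite T := ((Set.finite_range _).insert y).to_subtype
  haveI : FiniteDimensional F L := IntermediateField.finiteDimensional_adjoin (S := T) (fun z hz => by
    obtain ⟨c, hc⟩ := hT z hz
    exact IsIntegral.of_pow hq (hc ▸ isIntegral_algebraMap))
  haveI : IsScalarTower R L Ω := IsScalarTower.of_algebraMap_eq fun _ => rfl
  let yL : L := ⟨y, IntermediateField.subset_adjoin _ _ (Set.mem_insert _ _)⟩
  haveI := tate_core x hx h2 (L := L) hq hL yL (Subtype.ext hy)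
  let ι : K' →ₐ[R] L :=
    { toFun := fun z => ⟨algebraMap K' Ω z, by
        rw [← b.sum_repr z, map_sum]
        refine sum_mem fun i _ => ?_
        rw [Algebra.smul_def, map_mul, ← IsScalarTower.algebraMap_apply]
        exact mul_mem (L.algebraMap_mem _)
          (IntermediateField.subset_adjoin _ _ (Set.mem_insert_of_mem _ ⟨i, rfl⟩))⟩
      map_one' := Subtype.ext (map_one _)
      map_mul' := fun a b => Subtype.ext (map_mul _ a b)
      map_zero' := Subtype.ext (map_zero _)
      map_add' := fun a b => Subtype.ext (map_add _ a b)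
      commutes' := fun r => Subtype.ext (IsScalarTower.algebraMap_apply R K' Ω r).symm }
  exact Module.Finite.of_injective
    (ι.mapIntegralClosure.toLinearMap) fun a b h => Subtype.ext ((algebraMap K' Ω).injective
      (congrArg (fun z : integralClosure R L => ((z.1 : L) : Ω)) h))

end Groth.Agent.CAlgN2
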